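import Cfsg.Agent.H6.LR.LM.D0

set_option autoImplicit false
set_option maxRecDepth 100000
set_option Elab.async false

namespace Cfsg.H6.LR.LM

open Ly.M (P ok)

theorem r38 : Nat.beq (trF (P.img P.d code) [17,18,15,14,16,13,15,17,16,14,15,13,16] (code 19)) P.one = true := by
  decide +kernel

theorem r39 : Nat.beq (trF (P.img P.d code) [18] (code 18)) P.one = true := by
  decide +kernel

theorem r40 : Nat.beq (trF (P.img P.d code) [31,31] (code 31)) P.one = true := by
  decide +kernel

theorem r41 : Nat.beq (trF (P.img P.d code) [1] (code 1)) P.one = true := by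
  decide +kernel

theorem r42 : Nat.beq (trF (P.img P.d code) [2] (code 2)) P.one = true := by
  decide +kernel

theorem r43 : Nat.beq (trF (P.img P.d code) [4] (code 3)) P.one = true := by
  decide +kernel

theorem r44 : Nat.beq (trF (P.img P.d code) [5] (code 5)) P.one = true := by
  decide +kernel

theorem r45 : Nat.beq (trF (P.img P.d code) [6] (code 6)) P.one = true := by
  decide +kernel

theorem r46 : Nat.beq (trF (P.img P.d code) [7] (code 7)) P.one = true := by
  decide +kernel

theorem r47 : Nat.beq (trF (P.img P.d code) [8] (code 8)) P.one = true := by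
  decide +kernel

theorem r48 : Nat.beq (trF (P.img P.d code) [10] (code 9)) P.one = true := by
  decide +kernel

theorem r49 : Nat.beq (trF (P.img P.d code) [12] (code 11)) P.one = true := by
  decide +kernel

theorem r50 : Nat.beq (trF (P.img P.d code) [14] (code 13)) P.one = true := by
  decide +kernel

theorem r51 : Nat.beq (trF (P.img P.d code) [16] (code 15)) P.one = true := by
  decide +kernel

theorem r52 : Nat.beq (trF (P.img P.d code) [17] (code 17)) P.one = true := by
  decide +kernel

theorem r53 : Nat.beq (trF (P.img P.d code) [19] (code 18)) P.one = true := by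
  decide +kernel

theorem l2_0 : allR (P.lab1 1 code (nthN [0,32,5,33]) g2 tab2 30 4) 0 30 = true := by
  decide +kernel

theorem v2_5 : dvChk tab2 30 4 25 [[2,3,2,3]] [] [7,25] (unp 1 (nat_lit 0x1900)) = true := by
  decide +kernel

theorem v2_4 : dvChk tab2 30 4 13 [[1,3,1,2,1,3,1,2]] [[2,3,2,3]] [13,16] (unp 1 (nat_lit 0xd00)) = true := by
  decide +kernel

theorem v2_3 : dvChk tab2 30 4 10 [[1,3,1,3]] [[1,3,1,2,1,3,1,2], [2,3,2,3]] [0,10,17,24] (unp 3 (nat_lit 0x11000000180000000a00)) = true := by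
  decide +kernel

theorem v2_2 : dvChk tab2 30 4 21 [[1]] [[1,3,1,3], [1,3,1,2,1,3,1,2], [2,3,2,3]] [21,29] (unp 1 (nat_lit 0x1500)) = true := by
  decide +kernel

theorem v2_1 : dvChk tab2 30 4 3 [[2,3]] [[1], [1,3,1,3], [1,3,1,2,1,3,1,2], [2,3,2,3]] [3,18,21,29] (unp 3 (nat_lit 0x150000001d0100000300)) = true := by
  decide +kernel

theorem v2_0 : dvChk tab2 30 4 5 [[2]] [[2,3], [1], [1,3,1,3], [1,3,1,2,1,3,1,2], [2,3,2,3]] [5,22] (unp 1 (nat_lit 0x500)) = true := by
  decide +kernel


theorem l3_0 : allR (P.lab1 1 code (nthN [0,13,35,36]) g3 tab3 57 4) 0 57 = true := by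
  decide +kernel

theorem v3_4 : dvChk tab3 57 4 24 [[1,3,1,3,1,3]] [] [22,24,38] (unp 2 (nat_lit 0x160000001800)) = true := by
  decide +kernel

theorem v3_3 : dvChk tab3 57 4 3 [[1,2,1,2,1,2,3,3]] [[1,3,1,3,1,3]] [3,34,41] (unp 2 (nat_lit 0x220000000300)) = true := by
  decide +kernel

theorem v3_2 : dvChk tab3 57 4 16 [[1,1,3,1,3,3]] [[1,2,1,2,1,2,3,3], [1,3,1,3,1,3]] [9,12,16] (unp 2 (nat_lit 0xc0000001000)) = true := by
  decide +kernel

theorem v3_1 : dvChk tab3 57 4 1 [[2], [1,1,2,1]] [[1,1,3,1,3,3], [1,2,1,2,1,2,3,3], [1,3,1,3,1,3]] [1,2,3,5,6,8,9,10,11,12,13,16,18,23,27,29,30,31,32,34,40,41,42,43,47,52,56] (unp 26 (nat_lit 0x380000000a00000020010000120000001d00000017010000170000000d000000100100002f000000280000000c0100001b000000080000000601000009000000340000000201000002000000060000000b010000200000002200000001010000100000000100)) = true := by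
  decide +kernel

theorem v3_0 : dvChk tab3 57 4 35 [[1]] [[2], [1,1,2,1], [1,1,3,1,3,3], [1,2,1,2,1,2,3,3], [1,3,1,3,1,3]] [35,49,51] (unp 2 (nat_lit 0x310000002300)) = true := by
  decide +kernel


theorem l5_0 : allR (P.lab1 1 code (nthN [0,47,48]) g5 tab5 750 3) 0 200 = true := by
  decide +kernel

theorem l5_1 : allR (P.lab1 1 code (nthN [0,47,48]) g5 tab5 750 3) 200 200 = true := by
  decide +kernel

theorem l5_2 : allR (P.lab1 1 code (nthN [0,47,48]) g5 tab5 750 3) 400 200 = true := by
  decide +kernel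


end Cfsg.H6.LR.LM
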