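import Cfsg.Agent.H6.LR.LM.B0
import Cfsg.Agent.H6.LR.LM.B1
import Cfsg.Agent.H6.LR.LM.B2
import Cfsg.Agent.H6.LR.LM.B3
import Cfsg.Agent.H6.LR.LM.B4
import Cfsg.Agent.H6.LR.LM.B5
import Cfsg.Agent.H6.LR.L.Pres

set_option autoImplicit false
set_option maxRecDepth 100000
set_option Elab.async false

namespace Cfsg.H6.LR.LM

open Ly.M (P ok)

def sg : List (List ℕ) := [[], [1], [2], [3], [4], [5], [6], [7], [8], [9], [10], [11], [12], [13], [14], [15], [16], [17], [18], [19], [1,3], [2,3], [1,4,5], [3,6], [3,7], [6,7], [8,5], [8,6], [8,7], [8,4,6,3], [8,4,7,3], [18,2,7,2]]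

theorem ex : Ex (P.mat code) sg 32 :=
  (((((((((((((Ex.base (m := 20) (by decide +kernel)).step (Par.def_of_chk ok d20) (by decide +kernel)).step (Par.def_of_chk ok d21) (by decide +kernel)).step (Par.def_of_chk ok d22) (by decide +kernel)).step (Par.def_of_chk ok d23) (by decide +kernel)).step (Par.def_of_chk ok d24) (by decide +kernel)).step (Par.def_of_chk ok d25) (by decide +kernel)).step (Par.def_of_chk ok d26) (by decide +kernel)).step (Par.def_of_chk ok d27) (by decide +kernel)).step (Par.def_of_chk ok d28) (by decide +kernel)).step (Par.def_of_chk ok d29) (by decide +kernel)).step (Par.def_of_chk ok d30) (by decide +kernel)).step (Par.def_of_chk ok d31) (by decide +kernel))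

def R2 : List (List ℕ) := [[3,3,3], [20,20,20], [21,21,21], [1,2,1,2,3,1,2,1,2,4], [3,5,3,5], [2,5,2,5], [22,22], [2,5,6,2,6], [23,23,23], [1,2,1,6,1,2,5,1,6], [24,24,24], [1,4,7,5,1,5,7,5], [1,2,1,5,1,7,2,7,1,5], [25,25,25], [8,1,8,1], [8,2,8,2], [26,26,26], [27,27,27,27,27], [28,28,28,28,28], [29,29,29,29,29], [30,30,30,30,30], [8,3,8,3,10], [9,9,9], [9,1,10,1], [9,2,10,2], [9,3,10,4], [9,5,10,5], [9,6,10,6], [9,7,10,7], [9,8,10,8], [12,1,2,7,4,6,3], [14,7,6,1,2,4,6], [16,1,2,4,6,7,6], [17,6,3,8,6,7,6,8,4,6], [19,9,18,12], [19,11,18,10], [19,13,18,14], [19,15,18,15], [19,17,18,15,14,16,13,15,17,16,14,15,13,16], [18,18], [31,31,31], [1,1], [2,2], [3,4], [5,5], [6,6], [7,7], [8,8], [9,10], [11,12], [13,14], [15,16], [17,17], [18,19]]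

theorem ones : ∀ r ∈ R2, mpr (P.mat code) r = 1 :=
  (List.forall_mem_cons.mpr ⟨Par.one_of_chk ok (by decide) r0, (List.forall_mem_cons.mpr ⟨Par.one_of_chk ok (by decide) r1, (List.forall_mem_cons.mpr ⟨Par.one_of_chk ok (by decide) r2, (List.forall_mem_cons.mpr ⟨Par.one_of_chk ok (by decide) r3, (List.forall_mem_cons.mpr ⟨Par.one_of_chk ok (by decide) r4, (List.forall_mem_cons.mpr ⟨Par.one_of_chk ok (by decide) r5, (List.forall_mem_cons.mpr ⟨Par.one_of_chk ok (by decide) r6, (List.forall_mem_cons.mpr ⟨Par.one_of_chk ok (by decide) r7, (List.forall_mem_cons.mpr ⟨Par.one_of_chk ok (by decide) r8, (List.forall_mem_cons.mpr ⟨Par.one_of_chk ok (by decide) r9, (List.forall_mem_cons.mpr ⟨Par.one_of_chk ok (by decide) r10, (List.forall_mem_cons.mpr ⟨Par.one_of_chk ok (by decide) r11, (List.forall_mem_cons.mpr ⟨Par.one_of_chk ok (by decide) r12, (List.forall_mem_cons.mpr ⟨Par.one_of_chk ok (by decide) r13, (List.forall_mem_cons.mpr ⟨Par.one_of_chk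 ok (by decide) r14, (List.forall_mem_cons.mpr ⟨Par.one_of_chk ok (by decide) r15, (List.forall_mem_cons.mpr ⟨Par.one_of_chk ok (by decide) r16, (List.forall_mem_cons.mpr ⟨Par.one_of_chk ok (by decide) r17, (List.forall_mem_cons.mpr ⟨Par.one_of_chk ok (by decide) r18, (List.forall_mem_cons.mpr ⟨Par.one_of_chk ok (by decide) r19, (List.forall_mem_cons.mpr ⟨Par.one_of_chk ok (by decide) r20, (List.forall_mem_cons.mpr ⟨Par.one_of_chk ok (by decide) r21, (List.forall_mem_cons.mpr ⟨Par.one_of_chk ok (by decide) r22, (List.forall_mem_cons.mpr ⟨Par.one_of_chk ok (by decide) r23, (List.forall_mem_cons.mpr ⟨Par.one_of_chk ok (by decide) r24, (List.forall_mem_cons.mpr ⟨Par.one_of_chk ok (by decide) r25, (List.forall_mem_cons.mpr ⟨Par.one_of_chk ok (by decide) r26, (List.forall_mem_cons.mpr ⟨Par.one_of_chk ok (by decide) r27, (List.forall_mem_cons.mpr ⟨Par.one_of_chk ok (by decide) r28, (List.forall_mem_cons.mpr ⟨Par.one_of_chk ok (by decide) r29,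 (List.forall_mem_cons.mpr ⟨Par.one_of_chk ok (by decide) r30, (List.forall_mem_cons.mpr ⟨Par.one_of_chk ok (by decide) r31, (List.forall_mem_cons.mpr ⟨Par.one_of_chk ok (by decide) r32, (List.forall_mem_cons.mpr ⟨Par.one_of_chk ok (by decide) r33, (List.forall_mem_cons.mpr ⟨Par.one_of_chk ok (by decide) r34, (List.forall_mem_cons.mpr ⟨Par.one_of_chk ok (by decide) r35, (List.forall_mem_cons.mpr ⟨Par.one_of_chk ok (by decide) r36, (List.forall_mem_cons.mpr ⟨Par.one_of_chk ok (by decide) r37, (List.forall_mem_cons.mpr ⟨Par.one_of_chk ok (by decide) r38, (List.forall_mem_cons.mpr ⟨Par.one_of_chk ok (by decide) r39, (List.forall_mem_cons.mpr ⟨Par.one_of_chk ok (by decide) r40, (List.forall_mem_cons.mpr ⟨Par.one_of_chk ok (by decide) r41, (List.forall_mem_cons.mpr ⟨Par.one_of_chk ok (by decide) r42, (List.forall_mem_cons.mpr ⟨Par.one_of_chk ok (by decide) r43, (List.forall_mem_cons.mpr ⟨Par.one_of_chk ok (by decide) r44, (List.forall_mem_cons.mpr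 ⟨Par.one_of_chk ok (by decide) r45, (List.forall_mem_cons.mpr ⟨Par.one_of_chk ok (by decide) r46, (List.forall_mem_cons.mpr ⟨Par.one_of_chk ok (by decide) r47, (List.forall_mem_cons.mpr ⟨Par.one_of_chk ok (by decide) r48, (List.forall_mem_cons.mpr ⟨Par.one_of_chk ok (by decide) r49, (List.forall_mem_cons.mpr ⟨Par.one_of_chk ok (by decide) r50, (List.forall_mem_cons.mpr ⟨Par.one_of_chk ok (by decide) r51, (List.forall_mem_cons.mpr ⟨Par.one_of_chk ok (by decide) r52, (List.forall_mem_cons.mpr ⟨Par.one_of_chk ok (by decide) r53, (by simp)⟩)⟩)⟩)⟩)⟩)⟩)⟩)⟩)⟩)⟩)⟩)⟩)⟩)⟩)⟩)⟩)⟩)⟩)⟩)⟩)⟩)⟩)⟩)⟩)⟩)⟩)⟩)⟩)⟩)⟩)⟩)⟩)⟩)⟩)⟩)⟩)⟩)⟩)⟩)⟩)⟩)⟩)⟩)⟩)⟩)⟩)⟩)⟩)⟩)⟩)⟩)⟩)⟩)⟩)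

abbrev Mx : Type := Matrix (Fin P.d) (Fin P.d) (ZMod P.q)

theorem rep : ∃ μ : L.Grp →* Mx, ∀ x, 1 ≤ x → x < 20 → μ (L.ev x) = P.mat code x := by
  obtain ⟨h1, h2, h3⟩ := mrep_sound (m0 := 20) (inv := 103187034068032969634844306332357632719251964160) (R := L.R) ex ones (by decide +kernel)
  obtain ⟨ρ, hρ⟩ := L.lift h1 h2
  exact ⟨(Units.coeHom _).comp ρ, fun x a b => by rw [MonoidHom.comp_apply, hρ, h3 x a b]⟩

/-- The representation. -/
noncomputable def μ : L.Grp →* Mx := rep.choose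

theorem hμ : ∀ x, 1 ≤ x → x < 20 → μ (L.ev x) = P.mat code x := rep.choose_spec

theorem m20 : Mem μ (P.mat code) 20 := Mem.base hμ

theorem m21 : Mem μ (P.mat code) 21 := m20.step (Par.def_of_chk ok d20) (by decide +kernel)

theorem m22 : Mem μ (P.mat code) 22 := m21.step (Par.def_of_chk ok d21) (by decide +kernel)

theorem m23 : Mem μ (P.mat code) 23 := m22.step (Par.def_of_chk ok d22) (by decide +kernel)

theorem m24 : Mem μ (P.mat code) 24 := m23.step (Par.def_of_chk ok d23) (by decide +kernel)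

theorem m25 : Mem μ (P.mat code) 25 := m24.step (Par.def_of_chk ok d24) (by decide +kernel)

theorem m26 : Mem μ (P.mat code) 26 := m25.step (Par.def_of_chk ok d25) (by decide +kernel)

theorem m27 : Mem μ (P.mat code) 27 := m26.step (Par.def_of_chk ok d26) (by decide +kernel)

theorem m28 : Mem μ (P.mat code) 28 := m27.step (Par.def_of_chk ok d27) (by decide +kernel)

theorem m29 : Mem μ (P.mat code) 29 := m28.step (Par.def_of_chk ok d28) (by decide +kernel)

theorem m30 : Mem μ (P.mat code) 30 := m29.step (Par.def_of_chk ok d29) (by decide +kernel)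

theorem m31 : Mem μ (P.mat code) 31 := m30.step (Par.def_of_chk ok d30) (by decide +kernel)

theorem m32 : Mem μ (P.mat code) 32 := m31.step (Par.def_of_chk ok d31) (by decide +kernel)

theorem m33 : Mem μ (P.mat code) 33 := m32.step (Par.def_of_chk ok d32) (by decide +kernel)

theorem m34 : Mem μ (P.mat code) 34 := m33.step (Par.def_of_chk ok d33) (by decide +kernel)

theorem m35 : Mem μ (P.mat code) 35 := m34.step (Par.def_of_chk ok d34) (by decide +kernel)

theorem m36 : Mem μ (P.mat code) 36 := m35.step (Par.def_of_chk ok d35) (by decide +kernel)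

theorem m37 : Mem μ (P.mat code) 37 := m36.step (Par.def_of_chk ok d36) (by decide +kernel)

theorem m38 : Mem μ (P.mat code) 38 := m37.step (Par.def_of_chk ok d37) (by decide +kernel)

theorem m39 : Mem μ (P.mat code) 39 := m38.inv (Par.one_of_chk ok (by decide) d38) (by decide +kernel)

theorem m40 : Mem μ (P.mat code) 40 := m39.step (Par.def_of_chk ok d39) (by decide +kernel)

theorem m41 : Mem μ (P.mat code) 41 := m40.step (Par.def_of_chk ok d40) (by decide +kernel)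

theorem m42 : Mem μ (P.mat code) 42 := m41.step (Par.def_of_chk ok d41) (by decide +kernel)

theorem m43 : Mem μ (P.mat code) 43 := m42.step (Par.def_of_chk ok d42) (by decide +kernel)

theorem m44 : Mem μ (P.mat code) 44 := m43.step (Par.def_of_chk ok d43) (by decide +kernel)

theorem m45 : Mem μ (P.mat code) 45 := m44.step (Par.def_of_chk ok d44) (by decide +kernel)

theorem m46 : Mem μ (P.mat code) 46 := m45.step (Par.def_of_chk ok d45) (by decide +kernel)

theorem m47 : Mem μ (P.mat code) 47 := m46.step (Par.def_of_chk ok d46) (by decide +kernel)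

theorem m48 : Mem μ (P.mat code) 48 := m47.step (Par.def_of_chk ok d47) (by decide +kernel)

theorem m49 : Mem μ (P.mat code) 49 := m48.step (Par.def_of_chk ok d48) (by decide +kernel)

theorem m50 : Mem μ (P.mat code) 50 := m49.step (Par.def_of_chk ok d49) (by decide +kernel)

theorem m51 : Mem μ (P.mat code) 51 := m50.step (Par.def_of_chk ok d50) (by decide +kernel)

theorem m52 : Mem μ (P.mat code) 52 := m51.step (Par.def_of_chk ok d51) (by decide +kernel)

theorem m53 : Mem μ (P.mat code) 53 := m52.step (Par.def_of_chk ok d52) (by decide +kernel)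

theorem m54 : Mem μ (P.mat code) 54 := m53.step (Par.def_of_chk ok d53) (by decide +kernel)

theorem m55 : Mem μ (P.mat code) 55 := m54.step (Par.def_of_chk ok d54) (by decide +kernel)

theorem mem : Mem (kq μ) (P.mat code) 55 := m55.kq

theorem lab2 : Lab (rAct (kq μ) (Fin 1)) (fun x => ev2 (kq μ) (P.mat code) (nthN [0,32,5,33] x)) (fun p => P.dec 1 (g2 p)) tab2 30 4 :=
  Par.lab ok mem (by decide +kernel) (allR_range l2_0 (by norm_num : 0 + 30 = 30))

theorem dv2 : 256 ∣ Nat.card (L.Grp ⧸ μ.ker) :=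
  Dvd.dvd.trans (Dvd.dvd.trans (by decide +kernel) (lab2.dvd v2_0 (lab2.dvd v2_1 (lab2.dvd v2_2 (lab2.dvd v2_3 (lab2.dvd v2_4 (lab2.dvd v2_5 (one_dvd _)))))))) (Subgroup.card_subgroup_dvd_card _)

theorem lab3 : Lab (rAct (kq μ) (Fin 1)) (fun x => ev2 (kq μ) (P.mat code) (nthN [0,13,35,36] x)) (fun p => P.dec 1 (g3 p)) tab3 57 4 :=
  Par.lab ok mem (by decide +kernel) (allR_range l3_0 (by norm_num : 0 + 57 = 57))

theorem dv3 : 2187 ∣ Nat.card (L.Grp ⧸ μ.ker) :=
  Dvd.dvd.trans (Dvd.dvd.trans (by decide +kernel) (lab3.dvd v3_0 (lab3.dvd v3_1 (lab3.dvd v3_2 (lab3.dvd v3_3 (lab3.dvd v3_4 (one_dvd _))))))) (Subgroup.card_subgroup_dvd_card _)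

theorem lab5 : Lab (rAct (kq μ) (Fin 1)) (fun x => ev2 (kq μ) (P.mat code) (nthN [0,47,48] x)) (fun p => P.dec 1 (g5 p)) tab5 750 3 :=
  Par.lab ok mem (by decide +kernel) (range_join (range_join (allR_range l5_0 (by norm_num : 0 + 200 = 200)) (allR_range l5_1 (by norm_num : 200 + 200 = 400))) (range_join (allR_range l5_2 (by norm_num : 400 + 200 = 600)) (allR_range l5_3 (by norm_num : 600 + 150 = 750))))

theorem dv5 : 15625 ∣ Nat.card (L.Grp ⧸ μ.ker) :=
  Dvd.dvd.trans (Dvd.dvd.trans (by decide +kernel) (lab5.dvd v5_0 (lab5.dvd v5_1 (lab5.dvd v5_2 (one_dvd _))))) (Subgroup.card_subgroup_dvd_card _)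

theorem lab7 : Lab (rAct (kq μ) (Fin 1)) (fun x => ev2 (kq μ) (P.mat code) (nthN [0,49] x)) (fun p => P.dec 1 (g7 p)) tab7 7 2 :=
  Par.lab ok mem (by decide +kernel) (allR_range l7_0 (by norm_num : 0 + 7 = 7))

theorem dv7 : 7 ∣ Nat.card (L.Grp ⧸ μ.ker) :=
  Dvd.dvd.trans (Dvd.dvd.trans (by decide +kernel) (lab7.dvd v7_0 (one_dvd _))) (Subgroup.card_subgroup_dvd_card _)

theorem lab11 : Lab (rAct (kq μ) (Fin 1)) (fun x => ev2 (kq μ) (P.mat code) (nthN [0,51] x)) (fun p => P.dec 1 (g11 p)) tab11 11 2 :=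
  Par.lab ok mem (by decide +kernel) (allR_range l11_0 (by norm_num : 0 + 11 = 11))

theorem dv11 : 11 ∣ Nat.card (L.Grp ⧸ μ.ker) :=
  Dvd.dvd.trans (Dvd.dvd.trans (by decide +kernel) (lab11.dvd v11_0 (one_dvd _))) (Subgroup.card_subgroup_dvd_card _)

theorem lab31 : Lab (rAct (kq μ) (Fin 1)) (fun x => ev2 (kq μ) (P.mat code) (nthN [0,52] x)) (fun p => P.dec 1 (g31 p)) tab31 31 2 :=
  Par.lab ok mem (by decide +kernel) (allR_range l31_0 (by norm_num : 0 + 31 = 31))

theorem dv31 : 31 ∣ Nat.card (L.Grp ⧸ μ.ker) :=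
  Dvd.dvd.trans (Dvd.dvd.trans (by decide +kernel) (lab31.dvd v31_0 (one_dvd _))) (Subgroup.card_subgroup_dvd_card _)

theorem lab37 : Lab (rAct (kq μ) (Fin 1)) (fun x => ev2 (kq μ) (P.mat code) (nthN [0,53] x)) (fun p => P.dec 1 (g37 p)) tab37 37 2 :=
  Par.lab ok mem (by decide +kernel) (allR_range l37_0 (by norm_num : 0 + 37 = 37))

theorem dv37 : 37 ∣ Nat.card (L.Grp ⧸ μ.ker) :=
  Dvd.dvd.trans (Dvd.dvd.trans (by decide +kernel) (lab37.dvd v37_0 (one_dvd _))) (Subgroup.card_subgroup_dvd_card _)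

theorem lab67 : Lab (rAct (kq μ) (Fin 1)) (fun x => ev2 (kq μ) (P.mat code) (nthN [0,54] x)) (fun p => P.dec 1 (g67 p)) tab67 67 2 :=
  Par.lab ok mem (by decide +kernel) (allR_range l67_0 (by norm_num : 0 + 67 = 67))

theorem dv67 : 67 ∣ Nat.card (L.Grp ⧸ μ.ker) :=
  Dvd.dvd.trans (Dvd.dvd.trans (by decide +kernel) (lab67.dvd v67_0 (one_dvd _))) (Subgroup.card_subgroup_dvd_card _)

theorem dv : 51765179004000000 ∣ Nat.card (L.Grp ⧸ μ.ker) :=
  Dvd.dvd.trans (by decide +kernel) (Nat.lcm_dvd dv2 (Nat.lcm_dvd dv3 (Nat.lcm_dvd dv5 (Nat.lcm_dvd dv7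
    (Nat.lcm_dvd dv11 (Nat.lcm_dvd dv31 (Nat.lcm_dvd dv37 dv67)))))))


end Cfsg.H6.LR.LM
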